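import Cfsg.Agent.H844.K5.Base
import Cfsg.Agent.SporadicStructure.M11InvMain
import Cfsg.Agent.Transfer.NormalPComplement
import Cfsg.Prelude.Def_Spor_Mathieu

/-!
# `M₁₁` and `M₁₂` are rich

The centralizer of the involution `(T W)⁴` contains the element `T` of order 3 and the involution `W` with
`[W, T]` of order 6; so it has no normal 2-complement.  The elements `T W`, `(T W)²`, `(T W)⁴` have orders 8, 4, 2.
-/

set_option autoImplicit false

open Cfsg Subgroup Cfsg.Agent.H844.K5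

universe u

namespace Cfsg.Agent.H87.K5

/-- A group with elements `a`, `r` such that `r³ = 1` and `[a, r]` has order 6 has no normal 2-complement. -/
theorem no_compl {K : Type*} [Group K] [Finite K] (a r : K) (h3 : r ^ 3 = 1)
    (h6 : (a * r * a⁻¹ * r⁻¹) ^ 6 = 1) (hne : (a * r * a⁻¹ * r⁻¹) ^ 3 ≠ 1) : ¬ HasNormalPComplement 2 K := by
  intro h
  have : Fact (Nat.Prime 2) := ⟨Nat.prime_two⟩
  obtain ⟨N, hN, hc, hp⟩ := (Transfer.NormalPComplement.hasNormalPComplement_iff (p := 2) (G := K)).1 h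
  have hr : r ∈ N := by
    rw [← QuotientGroup.eq_one_iff]
    obtain ⟨k, hk⟩ := hp (r : K ⧸ N)
    have h1 : orderOf (r : K ⧸ N) ∣ 2 ^ k := orderOf_dvd_of_pow_eq_one hk
    have h2 : orderOf (r : K ⧸ N) ∣ 3 := orderOf_dvd_of_pow_eq_one (by
      rw [← QuotientGroup.mk_pow, h3]; rfl)
    have h4 : Nat.Coprime (2 ^ k) 3 := Nat.Coprime.pow_left k (by norm_num)
    exact orderOf_eq_one_iff.1 (Nat.eq_one_of_dvd_coprimes h4 h1 h2)
  have hm : a * r * a⁻¹ * r⁻¹ ∈ N := N.mul_mem (hN.conj_mem r hr a) (N.inv_mem hr)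
  have h1 : orderOf (a * r * a⁻¹ * r⁻¹) ∣ Nat.card N := by
    have := orderOf_dvd_natCard (⟨_, hm⟩ : N)
    rwa [Subgroup.orderOf_mk] at this
  have h2 : Nat.Coprime (orderOf (a * r * a⁻¹ * r⁻¹)) 2 := Nat.Coprime.coprime_dvd_left h1 hc
  have h3 : orderOf (a * r * a⁻¹ * r⁻¹) ∣ 2 * 3 := orderOf_dvd_of_pow_eq_one h6
  exact hne (orderOf_dvd_iff_pow_eq_one.1 (h2.dvd_of_dvd_mul_left h3))

/-- The common criterion. -/
theorem rich_of {S : Type*} [Group S] [Finite S] (t w : S) (h3 : t ^ 3 = 1) (h8 : (t * w) ^ 8 = 1)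
    (h4 : (t * w) ^ 4 ≠ 1) (ht : t * (t * w) ^ 4 = (t * w) ^ 4 * t) (hw : w * (t * w) ^ 4 = (t * w) ^ 4 * w)
    (hc6 : (w * t * w⁻¹ * t⁻¹) ^ 6 = 1) (hc3 : (w * t * w⁻¹ * t⁻¹) ^ 3 ≠ 1) : Rich S := by
  classical
  have : Fact (Nat.Prime 2) := ⟨Nat.prime_two⟩
  have o8 : orderOf (t * w) = 8 := orderOf_eq_prime_pow (p := 2) (n := 2) h4 h8
  have o4 : orderOf ((t * w) ^ 2) = 4 := by
    rw [orderOf_pow_of_dvd (by norm_num) (by rw [o8]; norm_num), o8]
  have o2 : orderOf ((t * w) ^ 4) = 2 := by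
    rw [orderOf_pow_of_dvd (by norm_num) (by rw [o8]; norm_num), o8]
  have hz : wt ((t * w) ^ 4) = 2 := by
    apply wt_eq_two
    have ht' : t ∈ centralizer ({(t * w) ^ 4} : Set S) := mem_centralizer_singleton_iff.2 ht
    have hw' : w ∈ centralizer ({(t * w) ^ 4} : Set S) := mem_centralizer_singleton_iff.2 hw
    refine no_compl (⟨w, hw'⟩ : ↥(centralizer ({(t * w) ^ 4} : Set S))) ⟨t, ht'⟩ ?_ ?_ ?_
    · exact Subtype.ext h3
    · exact Subtype.ext hc6
    · intro h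
      exact hc3 (congrArg Subtype.val h)
  have e1 : t * w ≠ (t * w) ^ 2 := fun h => by
    have := congrArg orderOf h
    rw [o8, o4] at this
    norm_num at this
  have e2 : t * w ≠ (t * w) ^ 4 := fun h => by
    have := congrArg orderOf h
    rw [o8, o2] at this
    norm_num at this
  have e3 : (t * w) ^ 2 ≠ (t * w) ^ 4 := fun h => by
    have := congrArg orderOf h
    rw [o4, o2] at this
    norm_num at this
  refine ⟨{t * w, (t * w) ^ 2, (t * w) ^ 4}, ?_, ?_, ?_⟩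
  · intro x hx
    simp only [Finset.mem_insert, Finset.mem_singleton] at hx
    have key : ∀ (y : S) (k : ℕ), orderOf y = 2 ^ (k + 1) → El y := by
      intro y k hy
      refine ⟨⟨k + 1, hy⟩, ?_⟩
      rintro rfl
      rw [orderOf_one] at hy
      have : 1 < 2 ^ (k + 1) := Nat.one_lt_two_pow (by omega)
      omega
    rcases hx with rfl | rfl | rfl
    · exact key _ 2 o8
    · exact key _ 1 o4
    · exact key _ 0 o2
  · intro x hx y hy h _
    simp only [Finset.mem_insert, Finset.mem_singleton] at hx hy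
    rcases hx with rfl | rfl | rfl <;> rcases hy with rfl | rfl | rfl <;>
      first
        | rfl
        | (simp only [o8, o4, o2] at h; omega)
  · rw [Finset.sum_insert (by simp [e1, e2]), Finset.sum_insert (by simp [e3]), Finset.sum_singleton, hz]
    have := one_le_wt (t * w)
    have := one_le_wt ((t * w) ^ 2)
    omega

/-- The criterion for subgroups. -/
theorem rich_of_mem {G : Type*} [Group G] {H : Subgroup G} [Finite H] (t w : G) (hT : t ∈ H) (hW : w ∈ H)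
    (h3 : t ^ 3 = 1) (h8 : (t * w) ^ 8 = 1)
    (h4 : (t * w) ^ 4 ≠ 1) (ht : t * (t * w) ^ 4 = (t * w) ^ 4 * t) (hw : w * (t * w) ^ 4 = (t * w) ^ 4 * w)
    (hc6 : (w * t * w⁻¹ * t⁻¹) ^ 6 = 1) (hc3 : (w * t * w⁻¹ * t⁻¹) ^ 3 ≠ 1) : Rich ↥H :=
  rich_of (⟨t, hT⟩ : H) ⟨w, hW⟩ (Subtype.ext h3) (Subtype.ext h8) (fun h => h4 (congrArg Subtype.val h))
    (Subtype.ext ht) (Subtype.ext hw) (Subtype.ext hc6) (fun h => hc3 (congrArg Subtype.val h))

section

open Cfsg.Agent.SporadicStructure.M11InvPerms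

open scoped Pointwise

theorem dd_eq : Spor.squareDodecad = dd := by
  unfold Spor.squareDodecad dd
  rw [qrWord_eq]

theorem pT_M12 : pT ∈ Spor.M12 := by
  refine Subgroup.mem_inf.2 ⟨pT_mem, ?_⟩
  rw [MulAction.mem_stabilizer_iff, dd_eq]
  exact SporadicStructure.M11InvMain.smul_eq_of_forall pT_dd

theorem pW_M12 : pW ∈ Spor.M12 := by
  refine Subgroup.mem_inf.2 ⟨pW_mem, ?_⟩
  rw [MulAction.mem_stabilizer_iff, dd_eq]
  exact SporadicStructure.M11InvMain.smul_eq_of_forall pW_dd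

theorem pT_M11 : pT ∈ Spor.M11 := Subgroup.mem_inf.2 ⟨pT_M12, pT_zero⟩

theorem pW_M11 : pW ∈ Spor.M11 := Subgroup.mem_inf.2 ⟨pW_M12, pW_zero⟩

theorem pf3 : pT ^ 3 = 1 := by decide +kernel
theorem pf8 : (pT * pW) ^ 8 = 1 := by decide +kernel
theorem pf4 : (pT * pW) ^ 4 ≠ 1 := by decide +kernel
theorem pfT : pT * (pT * pW) ^ 4 = (pT * pW) ^ 4 * pT := by decide +kernel
theorem pfW : pW * (pT * pW) ^ 4 = (pT * pW) ^ 4 * pW := by decide +kernel
theorem pfc6 : (pW * pT * pW⁻¹ * pT⁻¹) ^ 6 = 1 := by decide +kernel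
theorem pfc3 : (pW * pT * pW⁻¹ * pT⁻¹) ^ 3 ≠ 1 := by decide +kernel

theorem rich_sub {H : Subgroup (Equiv.Perm GolayPt)} (hT : pT ∈ H) (hW : pW ∈ H) : Rich ↥H :=
  rich_of_mem pT pW hT hW pf3 pf8 pf4 pfT pfW pfc6 pfc3

theorem rich_m11 {S : Type u} [Group S] [Finite S] (h : Spor.IsoM11 S) : Rich S := by
  obtain ⟨e⟩ := h
  exact Rich.congr e.symm (rich_sub pT_M11 pW_M11)

theorem rich_m12 {S : Type u} [Group S] [Finite S] (h : Spor.IsoM12 S) : Rich S := by
  obtain ⟨e⟩ := h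
  exact Rich.congr e.symm (rich_sub pT_M12 pW_M12)

end

end Cfsg.Agent.H87.K5
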